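import Groth.Agent.S2831
import Groth.Agent.PicAux.Pullback
import Groth.Agent.PicAux.OpenBij
import Groth.Prelude.Def_Formal2

/-!
# Picard groups of opens with parafactorial complement
-/

set_option autoImplicit false

universe u

open CategoryTheory CategoryTheory.Limits AlgebraicGeometry TopologicalSpace

namespace Groth.LefPic

variable {X P Q U : Scheme.{u}}

/-- Pull-back along a composite with isomorphisms at both ends. -/
theorem pic_of_invRestrictEquiv (j : P ⟶ Q) [IsOpenImmersion j] (h : ParaF.InvRestrictEquiv j)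
    (a : U ⟶ P) [IsIso a] (b : Q ⟶ X) [IsIso b] (f : U ⟶ X) (hf : a ≫ j ≫ b = f) :
    Formal2.PicPullbackInjective f ∧ Formal2.PicPullbackSurjective f := by
  subst hf
  let r := Scheme.Modules.restrictFunctorIsoPullback j
  let split : ∀ M : X.Modules, (Scheme.Modules.pullback (a ≫ j ≫ b)).obj M ≅
      (Scheme.Modules.pullback a).obj ((Scheme.Modules.pullback j).obj ((Scheme.Modules.pullback b).obj M)) :=
    fun M => ((Scheme.Modules.pullbackComp a (j ≫ b)).app M).symm ≪≫
      (Scheme.Modules.pullback a).mapIso ((Scheme.Modules.pullbackComp j b).app M).symm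
  let cancelA : ∀ M : P.Modules, (Scheme.Modules.pullback (inv a)).obj ((Scheme.Modules.pullback a).obj M) ≅ M :=
    fun M => (Scheme.Modules.pullbackComp (inv a) a).app M ≪≫
      (Scheme.Modules.pullbackCongr (IsIso.inv_hom_id a)).app M ≪≫ (Scheme.Modules.pullbackId P).app M
  let cancelB : ∀ M : Q.Modules, (Scheme.Modules.pullback b).obj ((Scheme.Modules.pullback (inv b)).obj M) ≅ M :=
    fun M => (Scheme.Modules.pullbackComp b (inv b)).app M ≪≫
      (Scheme.Modules.pullbackCongr (IsIso.hom_inv_id b)).app M ≪≫ (Scheme.Modules.pullbackId Q).app M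
  refine ⟨fun M hM ⟨e⟩ => ?_, fun N hN => ?_⟩
  · have := PicAux.isIso_pullUnit (inv a)
    have := PicAux.isIso_pullUnit j
    have := PicAux.isIso_pullUnit (inv b)
    let M' := (Scheme.Modules.pullback b).obj M
    let e₁ : M'.restrict j ≅ (Coh.structureModule Q).restrict j :=
      r.app M' ≪≫ (cancelA _).symm ≪≫ (Scheme.Modules.pullback (inv a)).mapIso ((split M).symm ≪≫ e) ≪≫
        asIso (PicAux.pullUnit (inv a)) ≪≫ (asIso (PicAux.pullUnit j)).symm ≪≫ (r.app _).symm
    have hO : PicF.IsInvertible (Coh.structureModule Q) :=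
      (PicAux.isInvertible_iff_exists_gen _).2 fun _ => ⟨⊤, _, trivial, PicAux.gen_oneSec ⊤⟩
    have hM' : PicF.IsInvertible M' := PicLoc.isInvertible_pullback b hM
    obtain ⟨φ, hφ⟩ := (h.1 M' _ hM' hO).2 e₁.hom
    obtain ⟨ψ, hψ⟩ := (h.1 _ M' hO hM').2 e₁.inv
    have h1 : φ ≫ ψ = 𝟙 _ := (h.1 M' M' hM' hM').1 (by
      dsimp only at hφ hψ ⊢
      rw [Functor.map_comp, hφ, hψ, Iso.hom_inv_id, CategoryTheory.Functor.map_id] )
    have h2 : ψ ≫ φ = 𝟙 _ := (h.1 _ _ hO hO).1 (by
      dsimp only at hφ hψ ⊢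
      rw [Functor.map_comp, hφ, hψ, Iso.inv_hom_id, CategoryTheory.Functor.map_id] )
    let e₂ : M' ≅ Coh.structureModule Q := ⟨φ, ψ, h1, h2⟩
    exact ⟨((Scheme.Modules.pullbackId X).app M).symm ≪≫
      (Scheme.Modules.pullbackCongr (IsIso.inv_hom_id b).symm).app M ≪≫
      ((Scheme.Modules.pullbackComp (inv b) b).app M).symm ≪≫
      (Scheme.Modules.pullback (inv b)).mapIso e₂ ≪≫ asIso (PicAux.pullUnit (inv b))⟩
  · obtain ⟨L, hL, ⟨e⟩⟩ := h.2 _ (PicLoc.isInvertible_pullback (inv a) hN)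
    refine ⟨(Scheme.Modules.pullback (inv b)).obj L, PicLoc.isInvertible_pullback _ hL, ⟨?_⟩⟩
    exact split _ ≪≫ (Scheme.Modules.pullback a).mapIso ((Scheme.Modules.pullback j).mapIso (cancelB L) ≪≫
      (r.app L).symm ≪≫ e) ≪≫ (Scheme.Modules.pullbackComp a (inv a)).app N ≪≫
      (Scheme.Modules.pullbackCongr (IsIso.hom_inv_id a)).app N ≪≫ (Scheme.Modules.pullbackId U).app N

/-- `Pic X ≅ Pic U` when the local rings outside `U` are parafactorial. -/
theorem pic_open_of_parafactorial [IsLocallyNoetherian X] (U : X.Opens)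
    (h : ∀ x : X, x ∉ U → ParaF.IsParafactorialLocalRing (X.presheaf.stalk x)) :
    Formal2.PicPullbackInjective U.ι ∧ Formal2.PicPullbackSurjective U.ι := by
  let Y : Closeds X := ⟨(U : Set X)ᶜ, U.2.isClosed_compl⟩
  have hp := (Groth.Agent.S2831.result X Y).2 fun y hy => h y hy
  have hU : U = ⊤ ⊓ Y.compl := by
    ext x
    simp [Y]
  exact pic_of_invRestrictEquiv _ (hp ⊤) (X.isoOfEq hU).hom X.topIso.hom U.ι (by simp)

end Groth.LefPic
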