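import Groth.Agent.LefPic.Leff
import Groth.Agent.LefPic.Parafactorial

/-!
# `Pic X ≅ Pic U ≅ Pic Y_n` under `Leff` and parafactoriality
-/

set_option autoImplicit false

universe u

open CategoryTheory CategoryTheory.Limits AlgebraicGeometry TopologicalSpace

namespace Groth.LefPic

variable {X : Scheme.{u}} (I : X.IdealSheafData) (n : ℕ)

theorem surjective_pic_thickening [IsLocallyNoetherian X] (hL : LefX.LeffCond X I)
    (h2 : ∀ m : ℕ, n ≤ m → Subsingleton (Coh.HH X (kernel (Lef.quotMap (Lef.pow_succ_le I m))) 2))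
    (h3 : ∀ U : X.Opens, (I.support : Set X) ⊆ U →
      ∀ x : X, x ∉ U → ParaF.IsParafactorialLocalRing (X.presheaf.stalk x)) :
    Formal2.PicPullbackSurjective (I ^ (n + 1)).subschemeι := fun N hN => by
  obtain ⟨U, L, g, hU, hg, hLinv, ⟨e⟩⟩ := exists_extension I hL n h2 N hN
  obtain ⟨M, hM, ⟨e'⟩⟩ := (pic_open_of_parafactorial U (h3 U hU)).2 L hLinv
  exact ⟨M, hM, ⟨(Scheme.Modules.pullbackCongr hg.symm).app M ≪≫
    ((Scheme.Modules.pullbackComp g U.ι).app M).symm ≪≫ (Scheme.Modules.pullback g).mapIso e' ≪≫ e⟩⟩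

theorem injective_pic_thickening (hLef : Lef.LefCond X I)
    (h1 : ∀ m : ℕ, n ≤ m → Subsingleton (Coh.HH X (kernel (Lef.quotMap (Lef.pow_succ_le I m))) 1)) :
    Formal2.PicPullbackInjective (I ^ (n + 1)).subschemeι := fun M hM ⟨e⟩ => by
  let g : (I ^ (n + 1)).subscheme ⟶ (⊤ : X.Opens) := (I ^ (n + 1)).subschemeι ≫ X.topIso.inv
  have hg : g ≫ (⊤ : X.Opens).ι = (I ^ (n + 1)).subschemeι := by simp [g, ← Scheme.topIso_hom]
  obtain ⟨e'⟩ := exists_trivial_nhd I hLef n h1 ⊤ ((Scheme.Modules.pullback (⊤ : X.Opens).ι).obj M) g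
    (fun x _ => trivial) hg (PicLoc.isInvertible_pullback _ hM)
    ⟨(Scheme.Modules.pullbackComp g (⊤ : X.Opens).ι).app M ≪≫ (Scheme.Modules.pullbackCongr hg).app M ≪≫ e⟩
  have := PicAux.isIso_pullUnit X.topIso.inv
  exact ⟨((Scheme.Modules.pullbackId X).app M).symm ≪≫
    (Scheme.Modules.pullbackCongr (X.topIso.inv_hom_id).symm).app M ≪≫
    ((Scheme.Modules.pullbackComp X.topIso.inv (⊤ : X.Opens).ι).app M).symm ≪≫
    (Scheme.Modules.pullback X.topIso.inv).mapIso e' ≪≫ asIso (PicAux.pullUnit X.topIso.inv)⟩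

theorem pic_thickening_of_open [IsLocallyNoetherian X] (hL : LefX.LeffCond X I)
    (h1 : ∀ m : ℕ, n ≤ m → Subsingleton (Coh.HH X (kernel (Lef.quotMap (Lef.pow_succ_le I m))) 1))
    (h2 : ∀ m : ℕ, n ≤ m → Subsingleton (Coh.HH X (kernel (Lef.quotMap (Lef.pow_succ_le I m))) 2))
    (h3 : ∀ U : X.Opens, (I.support : Set X) ⊆ U →
      ∀ x : X, x ∉ U → ParaF.IsParafactorialLocalRing (X.presheaf.stalk x))
    (U : X.Opens) (hU : (I.support : Set X) ⊆ U) :
    Formal2.PicPullbackInjective ((I.comap U.ι) ^ (n + 1)).subschemeι ∧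
      Formal2.PicPullbackSurjective ((I.comap U.ι) ^ (n + 1)).subschemeι := by
  let f := ((I.comap U.ι) ^ (n + 1)).subschemeι
  refine ⟨fun L hLinv ⟨e⟩ => ?_, fun N hN => ?_⟩
  · have := PicAux.isIso_pullUnit f
    exact nonempty_iso I hL.1 n h1 U hU hLinv ((PicAux.isInvertible_iff_exists_gen _).2 fun _ =>
      ⟨⊤, _, trivial, PicAux.gen_oneSec ⊤⟩) ⟨e ≪≫ (asIso (PicAux.pullUnit f)).symm⟩
  · obtain ⟨d, hd, hdf⟩ := LefVanish.exists_iso_of_support_le U (K := I ^ (n + 1))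
      (K' := (I.comap U.ι) ^ (n + 1)) (by rw [Scheme.IdealSheafData.support_pow_succ]; exact hU)
      (Divisors.comap_pow I U.ι (n + 1)).symm
    obtain ⟨M, hM, ⟨e⟩⟩ := surjective_pic_thickening I n hL h2 h3 _ (PicLoc.isInvertible_pullback d hN)
    refine ⟨(Scheme.Modules.pullback U.ι).obj M, PicLoc.isInvertible_pullback _ hM, ⟨?_⟩⟩
    exact (Scheme.Modules.pullbackComp f U.ι).app M ≪≫
      (Scheme.Modules.pullbackCongr ((IsIso.eq_inv_comp d).2 hdf)).app M ≪≫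
      ((Scheme.Modules.pullbackComp (inv d) (I ^ (n + 1)).subschemeι).app M).symm ≪≫
      (Scheme.Modules.pullback (inv d)).mapIso e ≪≫ (Scheme.Modules.pullbackComp (inv d) d).app N ≪≫
      (Scheme.Modules.pullbackCongr (IsIso.inv_hom_id d)).app N ≪≫ (Scheme.Modules.pullbackId _).app N

end Groth.LefPic
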