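import Groth.Agent.LefPic.Split
import Groth.Agent.LefSections.Basic
import Groth.Agent.LocFree.Basic
import Groth.Agent.PicAux.Pullback

/-!
# Invertible modules trivial on a thickening are trivial, under `Lef` and vanishing of `H¹`
-/

set_option autoImplicit false

universe u

open CategoryTheory CategoryTheory.Limits AlgebraicGeometry Opposite TopologicalSpace
open Groth.PicAux (res resX Gen toFun oneSec)
open Groth.RefRank (secToLin)
open Groth.CohTwo.LocFreeDual (dual)

namespace Groth.LefPic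

variable {X Y : Scheme.{u}}

theorem isInvertible_isFinLocFree {L : X.Modules} (hL : PicF.IsInvertible L) : FlatMod.IsFinLocFree L :=
  LocFree.isFinLocFree_of_rank (LocFree.isInvertible_iff_ofRank_one.1 hL)

theorem secToLin_secOfHom {A B : X.Modules} (φ : A ⟶ B) (V : X.Opens) (a : Γ(A, V)) :
    secToLin (res (RefHull.homSh A B) (le_top : V ≤ ⊤) (CohBase.HomPull.secOfHom φ)) a = φ.app V a :=
  RefRank.mod_section_ext B fun x hx =>
    (RefRank.germ_secToLin _ a x hx).trans (RefHull.stalkMapₗ_germ φ x hx a)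

section Data

variable (J : Y.IdealSheafData) {ι : Type u} (W : ι → Y.Opens) (t : ∀ i j, Γ(Y, W i ⊓ W j))

/-- Trivialisations modulo `J^(m+1)` of the module with transition functions `t`. -/
structure Triv (m : ℕ) where
  /-- coefficients of the trivialising section -/
  a : ∀ i, Γ(Y, W i)
  /-- their inverses -/
  b : ∀ i, Γ(Y, W i)
  inv : ∀ i, Van J m (a i * b i - 1)
  compat : ∀ i j, Van J m (resX Y (inf_le_left : W i ⊓ W j ≤ W i) (a i) * t i j -
    resX Y (inf_le_right : W i ⊓ W j ≤ W j) (a j))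

/-- One trivialisation refines another. -/
def Triv.Refines {m k : ℕ} (d : Triv J W t m) (d' : Triv J W t k) : Prop :=
  ∀ i, Van J m (d'.a i - d.a i) ∧ Van J m (d'.b i - d.b i)

end Data

theorem exists_refine (U : X.Opens) (I : X.IdealSheafData) (hI : (I.support : Set X) ⊆ U) (m : ℕ)
    (h1 : Subsingleton (Coh.HH X (kernel (Lef.quotMap (Lef.pow_succ_le I m))) 1))
    {ι : Type u} (W : ι → (U : Scheme.{u}).Opens) (hW : iSup W = ⊤) (hWaff : ∀ i, IsAffineOpen (W i))
    (t : ∀ i j, Γ((U : Scheme.{u}), W i ⊓ W j))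
    (ht : ∀ i j k, resX (U : Scheme.{u}) (inf_le_inf_right (W k) inf_le_left : W i ⊓ W j ⊓ W k ≤ W i ⊓ W k) (t i k) =
      resX (U : Scheme.{u}) (inf_le_left : W i ⊓ W j ⊓ W k ≤ W i ⊓ W j) (t i j) *
        resX (U : Scheme.{u}) (inf_le_inf_right (W k) inf_le_right : W i ⊓ W j ⊓ W k ≤ W j ⊓ W k) (t j k))
    (d : Triv (I.comap U.ι) W t m) : ∃ d' : Triv (I.comap U.ι) W t (m + 1), d.Refines _ _ _ d' := by
  obtain ⟨β, hβ, hsplit⟩ := exists_split U I hI m h1 W hW hWaff
    (fun i j => (resX (U : Scheme.{u}) (inf_le_left : W i ⊓ W j ≤ W i) (d.a i) * t i j -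
      resX (U : Scheme.{u}) (inf_le_right : W i ⊓ W j ≤ W j) (d.a j)) * resX (U : Scheme.{u}) (inf_le_right : W i ⊓ W j ≤ W j) (d.b j))
    (fun i j => by rw [mul_comm]; exact (d.compat i j).mul_left _)
    (fun i j k => by
      simp only [map_mul, map_sub, PicAux.resX_resX]
      rw [ht]
      set t₁ := resX (U : Scheme.{u}) (inf_le_left : W i ⊓ W j ⊓ W k ≤ W i ⊓ W j) (t i j)
      set t₂ := resX (U : Scheme.{u}) (inf_le_inf_right (W k) inf_le_right : W i ⊓ W j ⊓ W k ≤ W j ⊓ W k) (t j k)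
      have e₁ := (d.compat i j).res (inf_le_left : W i ⊓ W j ⊓ W k ≤ W i ⊓ W j)
      have e₂ := (d.compat j k).res (inf_le_inf_right (W k) inf_le_right : W i ⊓ W j ⊓ W k ≤ W j ⊓ W k)
      have f₁ := (d.inv j).res ((inf_le_left : W i ⊓ W j ⊓ W k ≤ W i ⊓ W j).trans inf_le_right)
      have f₂ := (d.inv k).res (inf_le_right : W i ⊓ W j ⊓ W k ≤ W k)
      simp only [map_sub, map_mul, map_one, PicAux.resX_resX] at e₁ e₂ f₁ f₂
      set A := resX (U : Scheme.{u}) ((inf_le_left : W i ⊓ W j ⊓ W k ≤ W i ⊓ W j).trans inf_le_left) (d.a i)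
      set B := resX (U : Scheme.{u}) ((inf_le_left : W i ⊓ W j ⊓ W k ≤ W i ⊓ W j).trans inf_le_right) (d.a j)
      set B' := resX (U : Scheme.{u}) ((inf_le_left : W i ⊓ W j ⊓ W k ≤ W i ⊓ W j).trans inf_le_right) (d.b j)
      set C := resX (U : Scheme.{u}) (inf_le_right : W i ⊓ W j ⊓ W k ≤ W k) (d.a k)
      set C' := resX (U : Scheme.{u}) (inf_le_right : W i ⊓ W j ⊓ W k ≤ W k) (d.b k)
      convert (e₁.mul_van (((e₂.mul_left (B' * C')).sub (f₁.mul_left (t₂ * C'))).add (f₂.mul_left B'))).neg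
        using 1
      ring)
  have hcl : ∀ i, Van (I.comap U.ι) m (d.a i * (1 + β i) * d.b i - 1) := fun i => by
    convert (d.inv i).add ((hβ i).mul_left (d.a i * d.b i)) using 1
    ring
  refine ⟨⟨fun i => d.a i * (1 + β i), fun i => d.b i * (1 - (d.a i * (1 + β i) * d.b i - 1)),
    fun i => ?_, fun i j => ?_⟩, fun i => ⟨?_, ?_⟩⟩
  · convert ((hcl i).mul_van (hcl i)).neg using 1
    ring
  · have e₁ := d.compat i j
    have f₁ := (d.inv j).res (inf_le_right : W i ⊓ W j ≤ W j)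
    have h₁ := (hβ i).res (inf_le_left : W i ⊓ W j ≤ W i)
    simp only [map_sub, map_mul, map_one] at f₁
    simp only [map_mul, map_add, map_one]
    convert ((e₁.mul_van h₁).sub (e₁.mul_van f₁)).add
      ((hsplit i j).mul_left (resX (U : Scheme.{u}) (inf_le_right : W i ⊓ W j ≤ W j) (d.a j))) using 1
    ring
  · convert (hβ i).mul_left (d.a i) using 1
    ring
  · convert (hcl i).mul_left (-d.b i) using 1
    ring

/-- Compatible trivialisations at every level. -/
theorem exists_seq {J : Y.IdealSheafData} {ι : Type u} {W : ι → Y.Opens} {t : ∀ i j, Γ(Y, W i ⊓ W j)}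
    {n : ℕ} (d : Triv J W t n)
    (step : ∀ m, n ≤ m → ∀ d : Triv J W t m, ∃ d' : Triv J W t (m + 1), d.Refines _ _ _ d') :
    ∃ s : ∀ k, Triv J W t k, ∀ k, (s k).Refines _ _ _ (s (k + 1)) := by
  choose f hf using step
  let q : ∀ k, Triv J W t (n + k) := fun k =>
    Nat.rec (motive := fun k => Triv J W t (n + k)) d (fun k e => f (n + k) (Nat.le_add_right n k) e) k
  let down : ∀ k, Triv J W t k := fun k =>
    ⟨(q k).a, (q k).b, fun i => ((q k).inv i).of_le (Nat.le_add_left k n),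
      fun i j => ((q k).compat i j).of_le (Nat.le_add_left k n)⟩
  exact ⟨down, fun k i => ⟨((hf _ (Nat.le_add_right n k) (q k) i).1).of_le (Nat.le_add_left k n),
    ((hf _ (Nat.le_add_right n k) (q k) i).2).of_le (Nat.le_add_left k n)⟩⟩

/-- Multiplication into `O/J^(k+1)`. -/
theorem toSub_eq_of_van {J : Y.IdealSheafData} {k : ℕ} {V : Y.Opens} (x y : Γ(Coh.structureModule Y, V))
    (h : Van J k (toFun x - toFun y)) :
    (ClSub.toSubscheme (J ^ (k + 1))).app V x = (ClSub.toSubscheme (J ^ (k + 1))).app V y := by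
  rw [Van, map_sub, sub_eq_zero] at h
  exact h

/-- A compatible family of trivialisations comes from a trivialisation, given `Hom(P, O)` formal bijectivity. -/
theorem exists_units {J : Y.IdealSheafData} {ι : Type u} {W : ι → Y.Opens} (hW : iSup W = ⊤)
    {P : Y.Modules} (g : ∀ i, Γ(P, W i)) (hg : ∀ i, Gen P (W i) (g i)) (hP : PicF.IsInvertible P)
    (t : ∀ i j, Γ(Y, W i ⊓ W j))
    (ht : ∀ i j, res P (inf_le_left : W i ⊓ W j ≤ W i) (g i) = t i j • res P (inf_le_right : W i ⊓ W j ≤ W j) (g j))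
    (h : ∀ D : Y.Modules, FlatMod.IsFinLocFree D → Lef.HomToFormalBijective J D)
    (s : ∀ k, Triv J W t k) (hs : ∀ k, (s k).Refines _ _ _ (s (k + 1))) :
    ∃ γ : ∀ i, Γ(Y, W i), (∀ i, IsUnit (γ i)) ∧ ∀ i j,
      resX Y (inf_le_left : W i ⊓ W j ≤ W i) (γ i) = t i j * resX Y (inf_le_right : W i ⊓ W j ≤ W j) (γ j) := by
  let q := fun k => ClSub.toSubscheme (J ^ (k + 1))
  let one : ∀ {V : Y.Opens}, Γ(Y, V) → Γ(Coh.structureModule Y, V) := fun r => r
  have hy : ∀ k, ∃ y : P ⟶ ClSub.quotMod (J ^ (k + 1)), ∀ i, y.app (W i) (g i) = (q k).app (W i) (one ((s k).b i)) := by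
    intro k
    refine PicAux.exists_hom_of_gen hW g hg _ fun i j r hr => ?_
    obtain rfl : t i j = r := (hg j).smul_inj inf_le_right ((ht i j).symm.trans hr)
    rw [← PicAux.app_res, ← PicAux.app_res, ← Scheme.Modules.Hom.app_smul]
    refine toSub_eq_of_van _ _ ?_
    rw [PicAux.toFun_res, PicAux.toFun_smul, PicAux.toFun_res]
    have e₁ := (s k).compat i j
    have f₁ := ((s k).inv i).res (inf_le_left : W i ⊓ W j ≤ W i)
    have f₂ := ((s k).inv j).res (inf_le_right : W i ⊓ W j ≤ W j)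
    simp only [map_sub, map_mul, map_one] at f₁ f₂
    show Van J k (resX Y inf_le_left ((s k).b i) - t i j * resX Y inf_le_right ((s k).b j))
    convert ((f₁.mul_left (t i j * resX Y (inf_le_right : W i ⊓ W j ≤ W j) ((s k).b j))).sub
      (e₁.mul_left (resX Y (inf_le_left : W i ⊓ W j ≤ W i) ((s k).b i) *
        resX Y (inf_le_right : W i ⊓ W j ≤ W j) ((s k).b j)))).sub
      (f₂.mul_left (resX Y (inf_le_left : W i ⊓ W j ≤ W i) ((s k).b i))) using 1
    ring
  choose y hy using hy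
  have hχ : ∀ k, ∃ χ : dual P ⟶ ClSub.quotMod (J ^ (k + 1)), ∀ i (V : Y.Opens) (hV : V ≤ W i) (f : Γ(dual P, V)),
      χ.app V f = (q k).app V (secToLin f (res P hV ((s k).a i • g i))) := by
    intro k
    refine PicAux.exists_hom_of_cover hW (fun i V hV f => (q k).app V (secToLin f (res P hV ((s k).a i • g i))))
      (fun i V hV f f' => by rw [RefRank.secToLin_add, LinearMap.add_apply, map_add])
      (fun i V hV r f => by rw [RefRank.secToLin_smul, LinearMap.smul_apply, Scheme.Modules.Hom.app_smul])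
      (fun i V V' hV hV' f => by
        rw [← PicAux.app_res]
        refine congrArg _ ((RefRank.secToLin_res hV' f (res P hV ((s k).a i • g i))).symm.trans ?_)
        exact congrArg _ (PicAux.res_res hV hV' _))
      (fun i j V hi hj f => ?_)
    have e := congrArg (res P (le_inf hi hj)) (ht i j)
    simp only [PicAux.res_smul, PicAux.res_res] at e
    simp only [PicAux.res_smul, e, map_smul]
    refine toSub_eq_of_van _ _ ?_
    rw [PicAux.toFun_smul, PicAux.toFun_smul, PicAux.toFun_smul, ← mul_assoc, ← sub_mul, mul_comm]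
    refine Van.mul_left _ ?_
    have e₁ := ((s k).compat i j).res (le_inf hi hj)
    simpa only [map_sub, map_mul, PicAux.resX_resX] using e₁
  choose χ hχ using hχ
  have hy' : Lef.IsFormalHom J P y := fun k => PicAux.hom_ext_gen hW g hg fun i => by
    show (Lef.quotMap (Lef.pow_succ_le J k)).app (W i) ((y (k + 1)).app (W i) (g i)) = _
    rw [hy, hy]
    refine (congrArg (fun φ => Scheme.Modules.Hom.app φ (W i) (one ((s (k + 1)).b i)))
      (LefSections.toSub_quotMap (Lef.pow_succ_le J k))).trans ?_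
    exact toSub_eq_of_van _ _ (hs k i).2
  have hχ' : Lef.IsFormalHom J (dual P) χ := fun k => PicAux.hom_ext_cover hW fun i V hV f => by
    show (Lef.quotMap (Lef.pow_succ_le J k)).app V ((χ (k + 1)).app V f) = _
    rw [hχ _ i V hV, hχ _ i V hV]
    refine (congrArg (fun φ => Scheme.Modules.Hom.app φ V (secToLin f (res P hV ((s (k + 1)).a i • g i))))
      (LefSections.toSub_quotMap (Lef.pow_succ_le J k))).trans ?_
    refine toSub_eq_of_van _ _ ?_
    simp only [PicAux.res_smul, map_smul, PicAux.toFun_smul, ← sub_mul]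
    rw [mul_comm]
    refine Van.mul_left _ ?_
    simpa only [map_sub] using ((hs k i).1).res hV
  have hfP := isInvertible_isFinLocFree hP
  obtain ⟨φ, hφ⟩ := (h P hfP).2 y hy'
  obtain ⟨φ', hφ'⟩ := (h (dual P) (LocFree.isFinLocFree_homSh hfP (LocFree.isFinLocFree_unit Y))).2 χ hχ'
  obtain ⟨σ, hσ⟩ := LefSections.exists_section_of_hom hfP φ'
  let Φ := CohBase.HomPull.secOfHom φ
  have key : ∀ k i, (q k).app (W i) (φ.app (W i) (res P le_top σ)) = (q k).app (W i) (oneSec Y (W i)) := by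
    intro k i
    rw [← secToLin_secOfHom φ (W i) (res P le_top σ)]
    refine (congrArg ((q k).app (W i)) (hσ (W i) (res (dual P) le_top Φ))).trans ?_
    refine (congrArg (fun ψ => Scheme.Modules.Hom.app ψ (W i) (res (dual P) le_top Φ)) (hφ' k)).trans ?_
    rw [hχ k i (W i) le_rfl, PicAux.res_self, secToLin_secOfHom, Scheme.Modules.Hom.app_smul,
      Scheme.Modules.Hom.app_smul]
    have e := congrArg (fun ψ => Scheme.Modules.Hom.app ψ (W i) (g i)) (hφ k)
    change (q k).app (W i) (φ.app (W i) (g i)) = (y k).app (W i) (g i) at e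
    rw [e, hy, ← Scheme.Modules.Hom.app_smul]
    refine toSub_eq_of_van _ _ ?_
    rw [PicAux.toFun_smul]
    exact (s k).inv i
  have hone : φ.app ⊤ σ = oneSec Y ⊤ := by
    have e : PicAux.homOfSection (φ.app ⊤ σ) = 𝟙 (Coh.structureModule Y) :=
      (h _ (LocFree.isFinLocFree_unit Y)).1 _ _ fun k => PicAux.hom_structure_ext (by
        show (q k).app ⊤ ((PicAux.homOfSection (φ.app ⊤ σ)).app ⊤ (oneSec Y ⊤)) = (q k).app ⊤ (oneSec Y ⊤)
        rw [PicAux.homOfSection_one]
        refine PicAux.res_ext W (fun i => le_top) hW.ge fun i => ?_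
        rw [← PicAux.app_res, ← PicAux.app_res, ← PicAux.app_res, PicAux.res_oneSec]
        exact key k i)
    rw [← PicAux.homOfSection_one (φ.app ⊤ σ), e]
    rfl
  refine ⟨fun i => toFun (φ.app (W i) (g i)), fun i => ?_, fun i j => ?_⟩
  · obtain ⟨c, hc⟩ := (hg i).exists_coeff le_rfl (res P le_top σ)
    have e := congrArg (res (Coh.structureModule Y) (le_top : W i ≤ ⊤)) hone
    rw [← PicAux.app_res, PicAux.res_oneSec, hc, PicAux.res_self, Scheme.Modules.Hom.app_smul] at e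
    have e' := congrArg toFun e
    rw [PicAux.toFun_smul, PicAux.toFun_oneSec, mul_comm] at e'
    exact IsUnit.of_mul_eq_one _ e'
  · rw [← PicAux.toFun_res, ← PicAux.app_res, ht, Scheme.Modules.Hom.app_smul, PicAux.toFun_smul,
      PicAux.app_res, PicAux.toFun_res]

/-- Invertible modules isomorphic on a thickening are isomorphic. -/
theorem nonempty_iso (I : X.IdealSheafData) (hLef : Lef.LefCond X I) (n : ℕ)
    (h1 : ∀ m : ℕ, n ≤ m → Subsingleton (Coh.HH X (kernel (Lef.quotMap (Lef.pow_succ_le I m))) 1))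
    (U : X.Opens) (hI : (I.support : Set X) ⊆ U) {L L' : (U : Scheme.{u}).Modules}
    (hL : PicF.IsInvertible L) (hL' : PicF.IsInvertible L')
    (e : Nonempty ((Scheme.Modules.pullback ((I.comap U.ι) ^ (n + 1)).subschemeι).obj L ≅
      (Scheme.Modules.pullback ((I.comap U.ι) ^ (n + 1)).subschemeι).obj L')) :
    Nonempty (L ≅ L') := by
  obtain ⟨ψ⟩ := e
  let J := I.comap U.ι
  let f := (J ^ (n + 1)).subschemeι
  have hcov : ∀ x : (U : Scheme.{u}), ∃ (W : (U : Scheme.{u}).Opens) (l : Γ(L, W)) (l' : Γ(L', W)), x ∈ W ∧ IsAffineOpen W ∧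
      Gen L W l ∧ Gen L' W l' := fun x => by
    obtain ⟨U₁, l, hx₁, hl⟩ := (PicAux.isInvertible_iff_exists_gen L).1 hL x
    obtain ⟨U₂, l', hx₂, hl'⟩ := (PicAux.isInvertible_iff_exists_gen L').1 hL' x
    obtain ⟨V, hxV, hV⟩ := LefSections.exists_affine_le (U₁ ⊓ U₂) ⟨hx₁, hx₂⟩
    exact ⟨V.1, _, _, hxV, V.2, hl.res (hV.trans inf_le_left), hl'.res (hV.trans inf_le_right)⟩
  choose W l l' hxW hWaff hl hl' using hcov
  have hW : iSup W = ⊤ := eq_top_iff.2 fun x _ => Opens.mem_iSup.2 ⟨x, hxW x⟩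
  choose u hu using fun i j => ((hl j).res (inf_le_right : W i ⊓ W j ≤ W j)).exists_unit
    ((hl i).res (inf_le_left : W i ⊓ W j ≤ W i))
  choose v hv using fun i j => ((hl' j).res (inf_le_right : W i ⊓ W j ≤ W j)).exists_unit
    ((hl' i).res (inf_le_left : W i ⊓ W j ≤ W i))
  let t : ∀ i j, Γ((U : Scheme.{u}), W i ⊓ W j) := fun i j => u i j * ↑(v i j)⁻¹
  have hcoc : ∀ {N : (U : Scheme.{u}).Modules} (m : ∀ i, Γ(N, W i)) (_ : ∀ i, Gen N (W i) (m i))
      (c : ∀ i j, Γ((U : Scheme.{u}), W i ⊓ W j))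
      (_ : ∀ i j, res N inf_le_left (m i) = c i j • res N inf_le_right (m j)) (i j k : (U : Scheme.{u})),
      resX (U : Scheme.{u}) (inf_le_inf_right (W k) inf_le_left : W i ⊓ W j ⊓ W k ≤ W i ⊓ W k) (c i k) =
        resX (U : Scheme.{u}) (inf_le_left : W i ⊓ W j ⊓ W k ≤ W i ⊓ W j) (c i j) *
          resX (U : Scheme.{u}) (inf_le_inf_right (W k) inf_le_right : W i ⊓ W j ⊓ W k ≤ W j ⊓ W k) (c j k) := by
    intro N m hm c hc i j k
    refine (hm k).smul_inj inf_le_right ?_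
    have e1 := congrArg (res N (inf_le_inf_right (W k) inf_le_left : W i ⊓ W j ⊓ W k ≤ W i ⊓ W k)) (hc i k)
    have e2 := congrArg (res N (inf_le_left : W i ⊓ W j ⊓ W k ≤ W i ⊓ W j)) (hc i j)
    have e3 := congrArg (res N (inf_le_inf_right (W k) inf_le_right : W i ⊓ W j ⊓ W k ≤ W j ⊓ W k)) (hc j k)
    simp only [PicAux.res_smul, PicAux.res_res] at e1 e2 e3
    rw [mul_smul, ← e1, ← e3]
    exact e2
  have ku := hcoc l hl (fun i j => u i j) hu
  have kv := hcoc l' hl' (fun i j => v i j) hv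
  have htc : ∀ i j k, resX (U : Scheme.{u}) (inf_le_inf_right (W k) inf_le_left : W i ⊓ W j ⊓ W k ≤ W i ⊓ W k) (t i k) =
      resX (U : Scheme.{u}) (inf_le_left : W i ⊓ W j ⊓ W k ≤ W i ⊓ W j) (t i j) *
        resX (U : Scheme.{u}) (inf_le_inf_right (W k) inf_le_right : W i ⊓ W j ⊓ W k ≤ W j ⊓ W k) (t j k) := fun i j k => by
    have kv' := kv i j k
    refine ((v i k).isUnit.map (resX (U : Scheme.{u}) (inf_le_inf_right (W k) inf_le_left :
      W i ⊓ W j ⊓ W k ≤ W i ⊓ W k))).mul_left_inj.1 ?_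
    simp only [t, map_mul]
    have p : ∀ (a b : (U : Scheme.{u})) {T : (U : Scheme.{u}).Opens} (h : T ≤ W a ⊓ W b),
        resX (U : Scheme.{u}) h (↑(v a b)⁻¹ : Γ((U : Scheme.{u}), W a ⊓ W b)) * resX (U : Scheme.{u}) h ↑(v a b) = 1 := fun a b T h => by
      rw [← map_mul, Units.inv_mul, map_one]
    rw [mul_assoc, p, mul_one, ku i j k, kv']
    have p1 := p i j (T := W i ⊓ W j ⊓ W k) inf_le_left
    have p2 := p j k (T := W i ⊓ W j ⊓ W k) (inf_le_inf_right (W k) inf_le_right)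
    linear_combination (norm := ring_nf) -(resX (U : Scheme.{u}) (inf_le_left : W i ⊓ W j ⊓ W k ≤ W i ⊓ W j) (u i j : Γ((U : Scheme.{u}), W i ⊓ W j)) *
      resX (U : Scheme.{u}) (inf_le_inf_right (W k) inf_le_right : W i ⊓ W j ⊓ W k ≤ W j ⊓ W k) (u j k : Γ((U : Scheme.{u}), W j ⊓ W k))) *
      (resX (U : Scheme.{u}) (inf_le_inf_right (W k) inf_le_right : W i ⊓ W j ⊓ W k ≤ W j ⊓ W k) (↑(v j k)⁻¹ : Γ((U : Scheme.{u}), W j ⊓ W k)) *
        resX (U : Scheme.{u}) (inf_le_inf_right (W k) inf_le_right : W i ⊓ W j ⊓ W k ≤ W j ⊓ W k) (v j k : Γ((U : Scheme.{u}), W j ⊓ W k)) * p1 + p2)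
  obtain ⟨P, g, hg, hP, hgt⟩ := PicAux.exists_module_of_cocycle W t hW
    (fun i j => (u i j).isUnit.mul (v i j)⁻¹.isUnit) htc
  choose c hc using fun i => ((hl' i).pull f).exists_unit (((hl i).pull f).map ψ.hom)
  choose a ha using fun i => f.app_surjective (W i) (hWaff i) (↑(c i)⁻¹ : Γ((J ^ (n + 1)).subscheme, f ⁻¹ᵁ W i))
  choose b hb using fun i => f.app_surjective (W i) (hWaff i) (c i : Γ((J ^ (n + 1)).subscheme, f ⁻¹ᵁ W i))
  let d : Triv J W t n := ⟨a, b, fun i => by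
    show f.app (W i) (a i * b i - 1) = 0
    rw [map_sub, map_mul, ha, hb, Units.inv_mul, map_one, sub_self], fun i j => by
    show f.app (W i ⊓ W j) _ = 0
    have h1 := congrArg (fun z => ψ.hom.app _ (PicAux.pullSec f L z)) (hu i j)
    have h2 := congrArg (PicAux.pullSec f L') (hv i j)
    simp only [PicAux.pullSec_smul, Scheme.Modules.Hom.app_smul, ← PicAux.res_pullSec] at h1 h2
    have h3 := congrArg (res _ (f.preimage_mono (inf_le_left : W i ⊓ W j ≤ W i))) (hc i)
    have h4 := congrArg (res _ (f.preimage_mono (inf_le_right : W i ⊓ W j ≤ W j))) (hc j)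
    rw [← PicAux.app_res, PicAux.res_smul] at h3 h4
    rw [h3, h4, h2, smul_smul, smul_smul] at h1
    have h5 := ((hl' j).pull f).smul_inj (f.preimage_mono (inf_le_right : W i ⊓ W j ≤ W j)) h1
    have hn : ∀ (i : (U : Scheme.{u})) {T : (U : Scheme.{u}).Opens} (hle : T ≤ W i) (r : Γ((U : Scheme.{u}), W i)),
        f.app T (resX (U : Scheme.{u}) hle r) = resX _ (f.preimage_mono hle) (f.app (W i) r) := fun i T hle r =>
      congr($(f.naturality (homOfLE hle).op) r)
    rw [map_sub, map_mul, hn, hn, ha, ha, map_mul, sub_eq_zero]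
    set ci := resX (J ^ (n + 1)).subscheme (f.preimage_mono (inf_le_left : W i ⊓ W j ≤ W i)) (c i : Γ((J ^ (n + 1)).subscheme, f ⁻¹ᵁ W i))
    set cj := resX (J ^ (n + 1)).subscheme (f.preimage_mono (inf_le_right : W i ⊓ W j ≤ W j)) (c j : Γ((J ^ (n + 1)).subscheme, f ⁻¹ᵁ W j))
    set ci' := resX (J ^ (n + 1)).subscheme (f.preimage_mono (inf_le_left : W i ⊓ W j ≤ W i)) (↑(c i)⁻¹ : Γ((J ^ (n + 1)).subscheme, f ⁻¹ᵁ W i))
    set cj' := resX (J ^ (n + 1)).subscheme (f.preimage_mono (inf_le_right : W i ⊓ W j ≤ W j)) (↑(c j)⁻¹ : Γ((J ^ (n + 1)).subscheme, f ⁻¹ᵁ W j))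
    have q1 : ci * ci' = 1 := by rw [← map_mul, Units.mul_inv, map_one]
    have q2 : cj * cj' = 1 := by rw [← map_mul, Units.mul_inv, map_one]
    have q3 : f.app (W i ⊓ W j) (v i j) * f.app (W i ⊓ W j) ↑(v i j)⁻¹ = 1 := by
      rw [← map_mul, Units.mul_inv, map_one]
    linear_combination (norm := ring_nf) -(ci' * cj' * f.app (W i ⊓ W j) ↑(v i j)⁻¹) * h5 +
      (cj' * f.app (W i ⊓ W j) ↑(v i j)⁻¹ * f.app (W i ⊓ W j) (v i j)) * q1 + cj' * q3 -
      (ci' * f.app (W i ⊓ W j) (u i j) * f.app (W i ⊓ W j) ↑(v i j)⁻¹) * q2⟩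
  obtain ⟨s, hs⟩ := exists_seq d fun m hm d => exists_refine U I hI m (h1 m hm) W hW hWaff t htc d
  obtain ⟨γ, hγ, hγt⟩ := exists_units hW g hg hP t hgt (fun D hD => hLef U hI D hD) s hs
  obtain ⟨E, -⟩ := PicAux.exists_iso_of_gen hW l hl (fun i => γ i • l' i)
    (fun i => (hl' i).smul_unit (hγ i)) fun i j r hr => by
      obtain rfl : (u i j : Γ((U : Scheme.{u}), W i ⊓ W j)) = r := (hl j).smul_inj inf_le_right ((hu i j).symm.trans hr)
      rw [PicAux.res_smul, PicAux.res_smul, hv i j, smul_smul, smul_smul, hγt]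
      refine congrArg (· • _) ?_
      simp only [t]
      linear_combination (norm := ring_nf) (u i j : Γ((U : Scheme.{u}), W i ⊓ W j)) *
        resX (U : Scheme.{u}) (inf_le_right : W i ⊓ W j ≤ W j) (γ j) * (v i j).inv_mul
  exact ⟨E⟩

end Groth.LefPic
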