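import Groth.Agent.LefPic.PicLift
import Groth.Agent.LefPic.Lift
import Groth.Prelude.Def_LefX

/-!
# `colim Pic U → Pic Y_n` under the effective Lefschetz condition
-/

set_option autoImplicit false

universe u

open CategoryTheory CategoryTheory.Limits AlgebraicGeometry TopologicalSpace

namespace Groth.LefPic

variable {X Y Z : Scheme.{u}}

/-- The inclusion between two thickenings. -/
noncomputable abbrev incl (I : X.IdealSheafData) {a b : ℕ} (h : a ≤ b) :
    (I ^ (a + 1)).subscheme ⟶ (I ^ (b + 1)).subscheme :=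
  Scheme.IdealSheafData.inclusion (pow_le_pow_right_of_le_one' le_top (by omega))

/-- Pull back along equal compositions. -/
noncomputable def pullPull {W : Scheme.{u}} {a : Z ⟶ Y} {b : Y ⟶ X} {c : Z ⟶ W} {d : W ⟶ X}
    (h : a ≫ b = c ≫ d) (M : X.Modules) :
    (Scheme.Modules.pullback a).obj ((Scheme.Modules.pullback b).obj M) ≅
      (Scheme.Modules.pullback c).obj ((Scheme.Modules.pullback d).obj M) :=
  (Scheme.Modules.pullbackComp a b).app M ≪≫ (Scheme.Modules.pullbackCongr h).app M ≪≫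
    ((Scheme.Modules.pullbackComp c d).app M).symm

theorem incl_comp (I : X.IdealSheafData) {a b c : ℕ} (h : a ≤ b) (h' : b ≤ c) :
    incl I h ≫ incl I h' = incl I (h.trans h') := by
  rw [← cancel_mono (I ^ (c + 1)).subschemeι]
  simp

theorem exists_levels (I : X.IdealSheafData) (n : ℕ)
    (h2 : ∀ m : ℕ, n ≤ m → Subsingleton (Coh.HH X (kernel (Lef.quotMap (Lef.pow_succ_le I m))) 2))
    (N : ((I ^ (n + 1)).subscheme).Modules) (hN : PicF.IsInvertible N) :
    ∃ G : ∀ j : ℕ, ((I ^ (n + j + 1)).subscheme).Modules, (∀ j, PicF.IsInvertible (G j)) ∧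
      (∀ j, Nonempty ((Scheme.Modules.pullback (incl I (n + j).le_succ)).obj (G (j + 1)) ≅ G j)) ∧
      ∀ j, Nonempty ((Scheme.Modules.pullback (incl I (Nat.le_add_right n j))).obj (G j) ≅ N) := by
  let T := fun j : ℕ => {G : ((I ^ (n + j + 1)).subscheme).Modules // PicF.IsInvertible G}
  have step : ∀ j, ∀ G : T j, ∃ G' : T (j + 1),
      Nonempty ((Scheme.Modules.pullback (incl I (n + j).le_succ)).obj G'.1 ≅ G.1) := fun j G => by
    obtain ⟨G', hG', he⟩ := exists_lift_step I (n + j) (h2 _ (Nat.le_add_right n j)) G.1 G.2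
    exact ⟨⟨G', hG'⟩, he⟩
  choose f hf using step
  let G : ∀ j, T j := fun j => Nat.rec (motive := T) ⟨N, hN⟩ f j
  refine ⟨fun j => (G j).1, fun j => (G j).2, fun j => hf j (G j), fun j => ?_⟩
  induction j with
  | zero =>
    refine ⟨(Scheme.Modules.pullbackCongr (?_ : incl I (Nat.le_add_right n 0) = 𝟙 _)).app _ ≪≫
      (Scheme.Modules.pullbackId _).app _⟩
    rw [← cancel_mono (I ^ (n + 1)).subschemeι]
    simp
  | succ j ih =>
    obtain ⟨e⟩ := ih
    obtain ⟨e'⟩ := hf j (G j)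
    exact ⟨(Scheme.Modules.pullbackCongr (incl_comp I (Nat.le_add_right n j) (n + j).le_succ).symm).app _ ≪≫
      ((Scheme.Modules.pullbackComp _ _).app _).symm ≪≫ (Scheme.Modules.pullback _).mapIso e' ≪≫ e⟩

theorem exists_system (I : X.IdealSheafData) (n : ℕ)
    (h2 : ∀ m : ℕ, n ≤ m → Subsingleton (Coh.HH X (kernel (Lef.quotMap (Lef.pow_succ_le I m))) 2))
    (N : ((I ^ (n + 1)).subscheme).Modules) (hN : PicF.IsInvertible N) :
    ∃ 𝔐 : FSch.ModSys (FSch.completionAlong X I), LefX.LevelwiseFinLocFree 𝔐 ∧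
      Nonempty (𝔐.F n ≅ N) := by
  obtain ⟨G, hG, he, hn⟩ := exists_levels I n h2 N hN
  let F : ∀ k, ((FSch.completionAlong X I).X k).Modules := fun k =>
    (Scheme.Modules.pullback (incl I (Nat.le_add_left k n))).obj (G k)
  have hi : ∀ k, Scheme.IdealSheafData.inclusion (FSch.pow_succ_le X I k) ≫ incl I (Nat.le_add_left (k + 1) n) =
      incl I (Nat.le_add_left k n) ≫ incl I (n + k).le_succ := fun k => by
    rw [← cancel_mono (I ^ (n + (k + 1) + 1)).subschemeι, Category.assoc, Category.assoc]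
    simp
    exact (Scheme.IdealSheafData.inclusion_subschemeι _).symm
  refine ⟨⟨F, fun k => pullPull (hi k) (G (k + 1)) ≪≫ (Scheme.Modules.pullback _).mapIso (he k).some⟩,
    fun k => LocFree.isFinLocFree_pullback _ (isInvertible_isFinLocFree (hG k)), ?_⟩
  obtain ⟨e⟩ := hn n
  exact ⟨e⟩

/-- A finite locally free module with invertible pull-back has a generator around the image. -/
theorem exists_gen_of_pullback (g : Z ⟶ Y) {E : Y.Modules} (hE : FlatMod.IsFinLocFree E)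
    (hgE : PicF.IsInvertible ((Scheme.Modules.pullback g).obj E)) (z : Z) :
    ∃ (V : Y.Opens) (s : Γ(E, V)), g z ∈ V ∧ PicAux.Gen E V s := by
  obtain ⟨V, r, s, -, hV, hs⟩ := LocFree.exists_affine_basis hE (g z)
  let T : Z.Opens := g ⁻¹ᵁ V
  obtain ⟨eT⟩ := LocFree.nonempty_iso_of_basis (hs.pull g)
  have hr : FlatMod.IsFinLocFreeOfRank r (((Scheme.Modules.pullback g).obj E).restrict T.ι) :=
    LocFree.isFinLocFreeOfRank_of_iso eT.symm (LocFree.isFinLocFreeOfRank_freeMod _ r)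
  have h1 : FlatMod.IsFinLocFreeOfRank 1 (((Scheme.Modules.pullback g).obj E).restrict T.ι) :=
    LocFree.isFinLocFreeOfRank_restrict T.ι (LocFree.isInvertible_iff_ofRank_one.1 hgE)
  obtain rfl : r = 1 := LocFree.rank_unique hr h1 ⟨z, hV⟩
  refine ⟨V, s 0, hV, fun W hW => ?_⟩
  have e : (fun r : Fin 1 → Γ(Y, W) => ∑ i, r i • PicAux.res E hW (s i)) =
      (fun r : Γ(Y, W) => r • PicAux.res E hW (s 0)) ∘ Equiv.funUnique (Fin 1) Γ(Y, W) := funext fun r => by
    simp
  exact (Function.Bijective.of_comp_iff _ (Equiv.bijective _)).1 (e ▸ hs W hW)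

theorem exists_invertible_nhd (g : Z ⟶ Y) {E : Y.Modules} (hE : FlatMod.IsFinLocFree E)
    (hgE : PicF.IsInvertible ((Scheme.Modules.pullback g).obj E)) :
    ∃ V : Y.Opens, Set.range g ⊆ V ∧ PicF.IsInvertible ((Scheme.Modules.pullback V.ι).obj E) := by
  choose W s hW hs using exists_gen_of_pullback g hE hgE
  refine ⟨⨆ z, W z, ?_, ?_⟩
  · rintro _ ⟨z, rfl⟩
    exact Opens.mem_iSup.2 ⟨z, hW z⟩
  · rw [PicAux.isInvertible_iff_exists_gen]
    intro x
    obtain ⟨z, hz⟩ := Opens.mem_iSup.1 x.2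
    exact ⟨_, _, hz, (hs z).pull _⟩

/-- Line bundles on a thickening extend to a neighbourhood. -/
theorem exists_extension (I : X.IdealSheafData) (hL : LefX.LeffCond X I) (n : ℕ)
    (h2 : ∀ m : ℕ, n ≤ m → Subsingleton (Coh.HH X (kernel (Lef.quotMap (Lef.pow_succ_le I m))) 2))
    (N : ((I ^ (n + 1)).subscheme).Modules) (hN : PicF.IsInvertible N) :
    ∃ (U : X.Opens) (L : (U : Scheme.{u}).Modules) (g : (I ^ (n + 1)).subscheme ⟶ U),
      (I.support : Set X) ⊆ (U : Set X) ∧ g ≫ U.ι = (I ^ (n + 1)).subschemeι ∧ PicF.IsInvertible L ∧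
      Nonempty ((Scheme.Modules.pullback g).obj L ≅ N) := by
  obtain ⟨𝔐, h𝔐, ⟨eN⟩⟩ := exists_system I n h2 N hN
  obtain ⟨U, E, hU, hE, ⟨φ⟩⟩ := hL.2 𝔐 h𝔐
  have hr : Set.range (I ^ (n + 1)).subschemeι = I.support := by
    rw [Scheme.IdealSheafData.range_subschemeι, Scheme.IdealSheafData.support_pow_succ]
  let g := IsOpenImmersion.lift U.ι (I ^ (n + 1)).subschemeι (by rw [hr, Scheme.Opens.range_ι]; exact hU)
  have hg : g ≫ U.ι = (I ^ (n + 1)).subschemeι := IsOpenImmersion.lift_fac _ _ _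
  let c : (Scheme.Modules.pullback U.ι).obj ((Scheme.Modules.pushforward U.ι).obj E) ≅ E :=
    ((Scheme.Modules.restrictFunctorIsoPullback U.ι).app _).symm ≪≫
      (asIso ((Scheme.Modules.restrictAdjunction U.ι).counit.app E))
  let eφ : (Scheme.Modules.pullback (I ^ (n + 1)).subschemeι).obj ((Scheme.Modules.pushforward U.ι).obj E) ≅
      𝔐.F n := ⟨φ.hom.app n, φ.inv.app n, congrArg (fun t : FSch.ModSys.Hom _ _ => t.app n) φ.hom_inv_id,
        congrArg (fun t : FSch.ModSys.Hom _ _ => t.app n) φ.inv_hom_id⟩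
  let e : (Scheme.Modules.pullback g).obj E ≅ N :=
    (Scheme.Modules.pullback g).mapIso c.symm ≪≫ (Scheme.Modules.pullbackComp g U.ι).app _ ≪≫
      (Scheme.Modules.pullbackCongr hg).app _ ≪≫ eφ ≪≫ eN
  obtain ⟨V, hgV, hV⟩ := exists_invertible_nhd g hE (PicAux.isInvertible_of_iso' hN e.symm)
  let W : X.Opens := U.ι ''ᵁ V
  have hWU : W ≤ U := Scheme.Opens.ι_image_le U V
  have hVW : X.homOfLE hWU ⁻¹ᵁ V = ⊤ := by
    refine eq_top_iff.2 fun x _ => ?_
    obtain ⟨y, hy, hyx⟩ := x.2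
    show X.homOfLE hWU x ∈ V
    have : X.homOfLE hWU x = y :=
      Subtype.ext ((congrArg (fun h : _ ⟶ X => h x) (X.homOfLE_ι hWU)).trans hyx.symm)
    rw [this]; exact hy
  have hr' : Set.range g ⊆ Set.range (X.homOfLE hWU) := by
    rintro _ ⟨z, rfl⟩
    let w : (W : Scheme.{u}) := ⟨U.ι (g z), g z, hgV ⟨z, rfl⟩, rfl⟩
    exact ⟨w, Subtype.ext (congrArg (fun h : (W : Scheme.{u}) ⟶ X => h w) (X.homOfLE_ι hWU))⟩
  let g' := IsOpenImmersion.lift (X.homOfLE hWU) g hr'
  have hg' : g' ≫ X.homOfLE hWU = g := IsOpenImmersion.lift_fac _ _ _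
  refine ⟨W, (Scheme.Modules.pullback (X.homOfLE hWU)).obj E, g', ?_, ?_, ?_, ?_⟩
  · rw [← hr]
    rintro _ ⟨z, rfl⟩
    exact ⟨g z, hgV ⟨z, rfl⟩, congrArg (fun h : _ ⟶ X => h z) hg⟩
  · rw [← hg, ← hg', Category.assoc, X.homOfLE_ι]
  · let k := IsOpenImmersion.lift V.ι (X.homOfLE hWU) (by
      rw [Scheme.Opens.range_ι]
      rintro _ ⟨x, rfl⟩
      exact hVW.ge (Set.mem_univ x))
    exact PicAux.isInvertible_of_iso' (PicLoc.isInvertible_pullback k hV)
      ((Scheme.Modules.pullbackComp k V.ι).app E ≪≫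
        (Scheme.Modules.pullbackCongr (IsOpenImmersion.lift_fac V.ι (X.homOfLE hWU) _)).app E)
  · exact ⟨(Scheme.Modules.pullbackComp g' (X.homOfLE hWU)).app E ≪≫
      (Scheme.Modules.pullbackCongr hg').app E ≪≫ e⟩

/-- A module trivial on a thickening is trivial near it. -/
theorem exists_trivial_nhd (I : X.IdealSheafData) (hLef : Lef.LefCond X I) (n : ℕ)
    (h1 : ∀ m : ℕ, n ≤ m → Subsingleton (Coh.HH X (kernel (Lef.quotMap (Lef.pow_succ_le I m))) 1))
    (U : X.Opens) (L : (U : Scheme.{u}).Modules) (g : (I ^ (n + 1)).subscheme ⟶ U)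
    (hU : (I.support : Set X) ⊆ U) (hg : g ≫ U.ι = (I ^ (n + 1)).subschemeι) (hL : PicF.IsInvertible L)
    (h : Nonempty ((Scheme.Modules.pullback g).obj L ≅ Coh.structureModule _)) :
    Nonempty (L ≅ Coh.structureModule (U : Scheme.{u})) := by
  obtain ⟨e⟩ := h
  obtain ⟨d, hd, hdf⟩ := LefVanish.exists_iso_of_support_le U (K := I ^ (n + 1))
    (K' := (I.comap U.ι) ^ (n + 1)) (by rw [Scheme.IdealSheafData.support_pow_succ]; exact hU)
    (Divisors.comap_pow I U.ι (n + 1)).symm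
  have hgd : d ≫ ((I.comap U.ι) ^ (n + 1)).subschemeι = g := by
    rw [← cancel_mono U.ι, Category.assoc, hdf, hg]
  let f := ((I.comap U.ι) ^ (n + 1)).subschemeι
  have := PicAux.isIso_pullUnit f
  have := PicAux.isIso_pullUnit (inv d)
  refine nonempty_iso I hLef n h1 U hU hL ((PicAux.isInvertible_iff_exists_gen _).2 fun _ =>
    ⟨⊤, _, trivial, PicAux.gen_oneSec ⊤⟩) ⟨?_⟩
  exact ((Scheme.Modules.pullbackId _).app _).symm ≪≫
    (Scheme.Modules.pullbackCongr (IsIso.inv_hom_id d).symm).app _ ≪≫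
    ((Scheme.Modules.pullbackComp (inv d) d).app _).symm ≪≫
    (Scheme.Modules.pullback (inv d)).mapIso ((Scheme.Modules.pullbackComp d f).app L ≪≫
      (Scheme.Modules.pullbackCongr hgd).app L ≪≫ e) ≪≫
    asIso (PicAux.pullUnit (inv d)) ≪≫ (asIso (PicAux.pullUnit f)).symm

end Groth.LefPic
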