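import Groth.Agent.LefPic.Split
import Groth.Agent.PicAux.PicExpSeq
import Groth.Agent.AdicLinTop.Thickenings
import Groth.Agent.CohBase.AffinePush
import Groth.Agent.QCohMod.Coherent
import Groth.Agent.LocFree.Basic
import Groth.Agent.PicAux.QCoh

/-!
# Lifting invertible modules along `V(I^(m+1)) ⟶ V(I^(m+2))`
-/

set_option autoImplicit false
set_option linter.style.haveILetI false

universe u

open CategoryTheory CategoryTheory.Limits AlgebraicGeometry Opposite TopologicalSpace
open Groth.LefSections.Compl (quotGen)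

namespace Groth.LefPic

variable {X Y Z : Scheme.{u}}

theorem comap_subschemeι_self (K : X.IdealSheafData) : K.comap K.subschemeι = ⊥ := by
  rw [← Groth.AdicLinTop.Thickenings.ker_inclusion (le_refl K)]
  have e : Scheme.IdealSheafData.inclusion (le_refl K) = 𝟙 _ := by
    rw [← cancel_mono K.subschemeι, Scheme.IdealSheafData.inclusion_subschemeι, Category.id_comp]
  rw [e]
  exact Scheme.Hom.ker_eq_bot_of_isIso _

theorem ker_inclusion_mul_self (I : X.IdealSheafData) (m : ℕ) :
    (Scheme.IdealSheafData.inclusion (Lef.pow_succ_le I m)).ker *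
      (Scheme.IdealSheafData.inclusion (Lef.pow_succ_le I m)).ker = ⊥ := by
  rw [Groth.AdicLinTop.Thickenings.ker_inclusion, ← Divisors.comap_mul, eq_bot_iff,
    ← comap_subschemeι_self (I ^ (m + 2))]
  refine (Scheme.IdealSheafData.map_gc _).monotone_l ?_
  rw [← pow_add]
  exact pow_le_pow_right_of_le_one' le_top (by omega)

theorem unitToPush_comp {g : Z ⟶ Y} {K : Y.IdealSheafData} {t : Z ⟶ K.subscheme}
    (e : t ≫ K.subschemeι = g) : ClSub.toSubscheme K ≫ quotGen e = ClSub.unitToPush g := by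
  refine Scheme.Modules.hom_ext _ _ fun V => ?_
  ext a
  change (quotGen e).app V (K.subschemeι.app V a) = g.app V a
  rw [LefVanish.quotGen_app, Scheme.Hom.app_eq_appLE, Scheme.Hom.app_eq_appLE,
    ← ConcreteCategory.comp_apply, Scheme.Hom.appLE_comp_appLE]
  exact LefVanish.appLE_congr_hom e _ _ _ a

/-- Kernels of `unitToPush` and quotient maps of factorisations. -/
noncomputable def kernelQuotGen {f : Y ⟶ X} {g : Z ⟶ Y} {f' : Z ⟶ X} (e : g ≫ f = f') :
    (Scheme.Modules.pushforward f).obj (kernel (ClSub.unitToPush g)) ≅ kernel (quotGen e) :=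
  PreservesKernel.iso (Scheme.Modules.pushforward f) _ ≪≫ (kernelCompMono _ _).symm

/-- The cohomology of the ideal of `V(I^(m+1))` in `V(I^(m+2))`. -/
theorem subsingleton_HH_ker_inclusion (I : X.IdealSheafData) (m i : ℕ)
    (h : Subsingleton (Coh.HH X (kernel (Lef.quotMap (Lef.pow_succ_le I m))) i)) :
    Subsingleton (Coh.HH (I ^ (m + 2)).subscheme
      (ClSub.idealMod (Scheme.IdealSheafData.inclusion (Lef.pow_succ_le I m)).ker) i) := by
  let g := Scheme.IdealSheafData.inclusion (Lef.pow_succ_le I m)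
  let f := (I ^ (m + 2)).subschemeι
  let K := g.ker
  let t : _ ⟶ K.subscheme := g.toImage
  have ht : t ≫ K.subschemeι = g := g.toImage_imageι
  have : IsClosedImmersion (g ≫ f) := by
    rw [Scheme.IdealSheafData.inclusion_subschemeι]; infer_instance
  have : IsClosedImmersion g := IsClosedImmersion.of_comp g f
  have : IsIso t := inferInstanceAs (IsIso g.toImage)
  have := LefVanish.isIso_quotGen ht
  let e1 : ClSub.idealMod K ≅ kernel (ClSub.unitToPush g) :=
    (kernelCompMono (ClSub.toSubscheme K) (quotGen ht)).symm ≪≫ kernelIsoOfEq (unitToPush_comp ht)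
  let e2 : (Scheme.Modules.pushforward f).obj (kernel (ClSub.unitToPush g)) ≅
      kernel (Lef.quotMap (Lef.pow_succ_le I m)) :=
    kernelQuotGen _ ≪≫ kernelIsoOfEq (LefSections.Compl.quotMap_eq_quotGen (Lef.pow_succ_le I m)).symm
  let e := (Scheme.Modules.pushforward f).mapIso e1 ≪≫ e2
  let E' := ((Sheaf.functorH _ i).mapIso ((SheafOfModules.toSheaf X.ringCatSheaf).mapIso e)).addCommGroupIsoToAddEquiv
  have h' : Subsingleton (Coh.HH X ((Scheme.Modules.pushforward f).obj (ClSub.idealMod K)) i) :=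
    @Equiv.subsingleton _ _ E'.toEquiv h
  have := PicAux.isQCoh_structureModule (I ^ (m + 2)).subscheme
  have := PicAux.isQCoh_structureModule K.subscheme
  have : (ClSub.idealMod K).IsQuasicoherent := by
    have := QCohMod.isQCoh_pushforward (Coh.structureModule K.subscheme) K.subschemeι
    exact QCohMod.isQCoh_kernel (ClSub.toSubscheme K)
  obtain ⟨E⟩ := CohBase.nonempty_equiv_H_push f (ClSub.idealMod K) i
  exact @Equiv.subsingleton _ _ E.symm.toEquiv h'

/-- Line bundles lift one step when `H²` of the kernel vanishes. -/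
theorem exists_lift_step (I : X.IdealSheafData) (m : ℕ)
    (h : Subsingleton (Coh.HH X (kernel (Lef.quotMap (Lef.pow_succ_le I m))) 2))
    (N : ((I ^ (m + 1)).subscheme).Modules) (hN : PicF.IsInvertible N) :
    ∃ G : ((I ^ (m + 2)).subscheme).Modules, PicF.IsInvertible G ∧
      Nonempty ((Scheme.Modules.pullback (Scheme.IdealSheafData.inclusion (Lef.pow_succ_le I m))).obj G ≅ N) := by
  let g := Scheme.IdealSheafData.inclusion (Lef.pow_succ_le I m)
  have : IsClosedImmersion (g ≫ (I ^ (m + 2)).subschemeι) := by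
    rw [Scheme.IdealSheafData.inclusion_subschemeι]; infer_instance
  have : IsClosedImmersion g := IsClosedImmersion.of_comp g (I ^ (m + 2)).subschemeι
  letI := PicAux.picLaw (I ^ (m + 2)).subscheme
  letI := PicAux.picLaw g.ker.subscheme
  have hi : PicGrp.PullMul g.ker.subschemeι := fun c d hc hd => PicAux.pullMul _ ⟨c, hc⟩ ⟨d, hd⟩
  obtain ⟨ε, δ₀, α, δ₁, -, -, -, -, -, hδ⟩ := PicAux.PicExpSeq.exists_sequence hi (ker_inclusion_mul_self I m)
  let t := g.toImage
  have : IsIso t := inferInstanceAs (IsIso g.toImage)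
  let N' := (Scheme.Modules.pullback (inv t)).obj N
  have hN' : PicF.IsInvertible N' := PicLoc.isInvertible_pullback (inv t) hN
  have hsub := subsingleton_HH_ker_inclusion I m 2 h
  let c₀ : PicLoc.PicSet g.ker.subscheme := ⟨PicF.cl N', N', rfl, hN'⟩
  have hmem : c₀ ∈ δ₁.ker :=
    MonoidHom.mem_ker.2 (@Subsingleton.elim _ hsub _ _)
  rw [hδ] at hmem
  obtain ⟨c, hc⟩ := hmem
  obtain ⟨G, hG, rfl⟩ := PicGrp.exists_eq_cls c
  rw [PicGrp.pullHom_cls] at hc
  obtain ⟨e⟩ := (PicGrp.cl_eq_cl_iff _ _).1 (congrArg Subtype.val hc)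
  refine ⟨G, hG, ⟨?_⟩⟩
  exact (Scheme.Modules.pullbackCongr g.toImage_imageι).symm.app G ≪≫
    (Scheme.Modules.pullbackComp t g.ker.subschemeι).symm.app G ≪≫
    (Scheme.Modules.pullback t).mapIso e ≪≫ (Scheme.Modules.pullbackComp t (inv t)).app N ≪≫
    (Scheme.Modules.pullbackCongr (IsIso.hom_inv_id t)).app N ≪≫ (Scheme.Modules.pullbackId _).app N

end Groth.LefPic
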