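import Groth.Agent.LefVanish.Reduce
import Groth.Agent.PicAux.CechOne
import Groth.Agent.PicAux.Cocycle
import Groth.Agent.QCohMod.Category

/-!
# Splitting cocycles with values in `J^(m+1)/J^(m+2)` on an open containing the support
-/

set_option autoImplicit false

universe u

open CategoryTheory CategoryTheory.Limits AlgebraicGeometry Opposite TopologicalSpace
open Groth.PicAux (res resX)
open Groth.LefSections.Compl (quotGen)

namespace Groth.LefPic

variable {X Y : Scheme.{u}}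

/-- `a` vanishes on the thickening cut out by `J^(m+1)`. -/
def Van (J : Y.IdealSheafData) (m : ℕ) {W : Y.Opens} (a : Γ(Y, W)) : Prop :=
  (J ^ (m + 1)).subschemeι.app W a = 0

section Van

variable {J : Y.IdealSheafData} {m : ℕ} {W W' : Y.Opens}

theorem Van.add {a b : Γ(Y, W)} (ha : Van J m a) (hb : Van J m b) : Van J m (a + b) := by
  unfold Van at *; rw [map_add, ha, hb, add_zero]

theorem Van.sub {a b : Γ(Y, W)} (ha : Van J m a) (hb : Van J m b) : Van J m (a - b) := by
  unfold Van at *; rw [map_sub, ha, hb, sub_zero]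

theorem Van.neg {a : Γ(Y, W)} (ha : Van J m a) : Van J m (-a) := by
  unfold Van at *; rw [map_neg, ha, neg_zero]

theorem Van.mul_left {a : Γ(Y, W)} (r : Γ(Y, W)) (ha : Van J m a) : Van J m (r * a) := by
  unfold Van at *; rw [map_mul, ha, mul_zero]

theorem Van.res {a : Γ(Y, W)} (ha : Van J m a) (h : W' ≤ W) : Van J m (resX Y h a) := by
  unfold Van at *
  refine (congr($((J ^ (m + 1)).subschemeι.naturality (homOfLE h).op) a)).trans ?_
  rw [CommRingCat.comp_apply, ha, map_zero]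

theorem Van.pred {a : Γ(Y, W)} (ha : Van J (m + 1) a) : Van J m a := by
  have h := Scheme.IdealSheafData.inclusion_subschemeι (Lef.pow_succ_le J m)
  unfold Van at *
  rw [Scheme.Hom.congr_app h.symm W, Scheme.Hom.comp_app]
  change (J ^ (m + 1)).subscheme.presheaf.map _ ((Scheme.IdealSheafData.inclusion (Lef.pow_succ_le J m)).app _
    ((J ^ (m + 1 + 1)).subschemeι.app W a)) = 0
  rw [ha]
  exact (congrArg _ (map_zero _)).trans (map_zero _)

theorem Van.of_le {a : Γ(Y, W)} {k : ℕ} (h : k ≤ m) (ha : Van J m a) : Van J k a := by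
  induction h with
  | refl => exact ha
  | step _ ih => exact ih ha.pred

theorem van_of_cover {ι : Type*} {a : Γ(Y, W)} (V : ι → Y.Opens) (hV : ∀ i, V i ≤ W) (hc : W ≤ iSup V)
    (h : ∀ i, Van J m (resX Y (hV i) a)) : Van J m a := by
  set f := (J ^ (m + 1)).subschemeι
  refine PicAux.resX_ext (fun i => f ⁻¹ᵁ V i) (fun i => f.preimage_mono (hV i))
    (fun x hx => ?_) fun i => ?_
  · obtain ⟨i, hi⟩ := Opens.mem_iSup.1 (hc hx)
    exact Opens.mem_iSup.2 ⟨i, hi⟩
  · rw [map_zero]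
    exact (congr($(f.naturality (homOfLE (hV i)).op) a)).symm.trans (h i)

theorem van_iff_mem {V : Y.affineOpens} {a : Γ(Y, V.1)} : Van J m a ↔ a ∈ J.ideal V ^ (m + 1) := by
  have : a ∈ RingHom.ker ((J ^ (m + 1)).subschemeι.app V.1).hom ↔ a ∈ (J ^ (m + 1)).ideal V := by
    rw [(J ^ (m + 1)).ker_subschemeι_app V]
  rw [Scheme.IdealSheafData.ideal_pow, Pi.pow_apply] at this
  exact this

theorem Van.mul_zero_level {a b : Γ(Y, W)} (ha : Van J m a) (hb : Van J 0 b) : Van J (m + 1) (a * b) := by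
  refine van_of_cover (fun V : {V : Y.affineOpens // V.1 ≤ W} => V.1.1) (fun V => V.2) (fun x hx => ?_)
    fun V => ?_
  · obtain ⟨V, hxV, hVW⟩ := LefSections.exists_affine_le W hx
    exact Opens.mem_iSup.2 ⟨⟨V, hVW⟩, hxV⟩
  · rw [map_mul, van_iff_mem, pow_succ]
    have h0 := van_iff_mem.1 (hb.res V.2)
    rw [zero_add, pow_one] at h0
    exact Ideal.mul_mem_mul (van_iff_mem.1 (ha.res V.2)) h0

theorem Van.mul_van {a b : Γ(Y, W)} (ha : Van J m a) (hb : Van J m b) : Van J (m + 1) (a * b) :=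
  ha.mul_zero_level (hb.of_le (Nat.zero_le m))

theorem quotMap_app_toSub (a : Γ(Y, W)) :
    (Lef.quotMap (Lef.pow_succ_le J m)).app W ((J ^ (m + 1 + 1)).subschemeι.app W a) =
      (J ^ (m + 1)).subschemeι.app W a :=
  congrArg (fun φ => Scheme.Modules.Hom.app φ W a) (LefSections.toSub_quotMap (Lef.pow_succ_le J m))

end Van

theorem exists_pushIso (U : X.Opens) (I : X.IdealSheafData) (hI : (I.support : Set X) ⊆ U) (n : ℕ) :
    ∃ (e₁ : (Scheme.Modules.pushforward U.ι).obj (ClSub.quotMod ((I.comap U.ι) ^ (n + 2))) ≅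
        ClSub.quotMod (I ^ (n + 2)))
      (e₀ : (Scheme.Modules.pushforward U.ι).obj (ClSub.quotMod ((I.comap U.ι) ^ (n + 1))) ≅
        ClSub.quotMod (I ^ (n + 1))),
      (Scheme.Modules.pushforward U.ι).map (Lef.quotMap (Lef.pow_succ_le (I.comap U.ι) n)) ≫ e₀.hom =
        e₁.hom ≫ Lef.quotMap (Lef.pow_succ_le I n) := by
  let J := I.comap U.ι
  obtain ⟨d₁, hd₁, hdf₁⟩ := LefVanish.exists_iso_of_support_le U (K := I ^ (n + 1 + 1))
    (K' := J ^ (n + 1 + 1)) (by rw [Scheme.IdealSheafData.support_pow_succ]; exact hI)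
    (Divisors.comap_pow I U.ι (n + 1 + 1)).symm
  obtain ⟨d₀, hd₀, hdf₀⟩ := LefVanish.exists_iso_of_support_le U (K := I ^ (n + 1))
    (K' := J ^ (n + 1)) (by rw [Scheme.IdealSheafData.support_pow_succ]; exact hI)
    (Divisors.comap_pow I U.ι (n + 1)).symm
  have := LefVanish.isIso_quotGen hdf₁
  have := LefVanish.isIso_quotGen hdf₀
  have : IsIso (LefVanish.kappa hdf₁) := IsIso.comp_isIso
  have : IsIso (LefVanish.kappa hdf₀) := IsIso.comp_isIso
  refine ⟨asIso (LefVanish.kappa hdf₁), asIso (LefVanish.kappa hdf₀), ?_⟩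
  rw [asIso_hom, asIso_hom, LefSections.Compl.quotMap_eq_quotGen, LefSections.Compl.quotMap_eq_quotGen]
  refine LefVanish.kappa_quotGen _ _ _ _ ?_
  rw [← cancel_mono (J ^ (n + 1 + 1)).subschemeι, ← cancel_mono U.ι]
  simp only [Category.assoc]
  rw [hdf₁, Scheme.IdealSheafData.inclusion_subschemeι,
    Scheme.IdealSheafData.inclusion_subschemeι_assoc, hdf₀]

theorem subsingleton_H_push (U : X.Opens) (I : X.IdealSheafData) (hI : (I.support : Set X) ⊆ U) (n : ℕ)
    (h : Subsingleton (Coh.HH X (kernel (Lef.quotMap (Lef.pow_succ_le I n))) 1)) :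
    Subsingleton (Coh.HH X ((Scheme.Modules.pushforward U.ι).obj
      (kernel (Lef.quotMap (Lef.pow_succ_le (I.comap U.ι) n)))) 1) := by
  obtain ⟨e₁, e₀, he⟩ := exists_pushIso U I hI n
  let E : (Scheme.Modules.pushforward U.ι).obj (kernel (Lef.quotMap (Lef.pow_succ_le (I.comap U.ι) n))) ≅
      kernel (Lef.quotMap (Lef.pow_succ_le I n)) :=
    PreservesKernel.iso (Scheme.Modules.pushforward U.ι) _ ≪≫ kernel.mapIso _ _ e₁ e₀ he
  let E' := ((Sheaf.functorH _ 1).mapIso ((SheafOfModules.toSheaf X.ringCatSheaf).mapIso E)).addCommGroupIsoToAddEquiv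
  exact @Equiv.subsingleton _ _ E'.toEquiv h

theorem res_sub' {M : Y.Modules} {W W' : Y.Opens} (h : W' ≤ W) (a b : Γ(M, W)) :
    res M h (a - b) = res M h a - res M h b :=
  map_sub (M.presheaf.map (homOfLE h).op).hom a b

/-- Splitting for a module on `U` without `H¹` after pushing forward, supported in a closed subset inside `U`. -/
theorem exists_split_mod (U : X.Opens) (V₀ : X.Opens) (hV₀ : ∀ x : X, x ∉ U → x ∈ V₀)
    (F : (U : Scheme.{u}).Modules) (hsub : ∀ V : X.Opens, V ≤ V₀ → Subsingleton Γ(F, U.ι ⁻¹ᵁ V))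
    (hH : Subsingleton (Coh.HH X ((Scheme.Modules.pushforward U.ι).obj F) 1))
    {ι : Type u} (W : ι → (U : Scheme.{u}).Opens) (hW : iSup W = ⊤) (g : ∀ i j, Γ(F, W i ⊓ W j))
    (hg : ∀ i j k, res F (inf_le_left : W i ⊓ W j ⊓ W k ≤ W i ⊓ W j) (g i j) +
        res F (inf_le_inf_right (W k) inf_le_right : W i ⊓ W j ⊓ W k ≤ W j ⊓ W k) (g j k) =
        res F (inf_le_inf_right (W k) inf_le_left : W i ⊓ W j ⊓ W k ≤ W i ⊓ W k) (g i k)) :
    ∃ a : ∀ i, Γ(F, W i), ∀ i j, g i j = res F (inf_le_right : W i ⊓ W j ≤ W j) (a j) -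
      res F (inf_le_left : W i ⊓ W j ≤ W i) (a i) := by
  let V : Option ι → X.Opens := fun o => o.elim V₀ fun i => U.ι ''ᵁ W i
  have hV : ∀ i, U.ι ⁻¹ᵁ (V (some i)) ≤ W i := fun i => (Scheme.Hom.preimage_image_eq U.ι (W i)).le
  have hWV : ∀ i, W i ≤ U.ι ⁻¹ᵁ (V (some i)) := fun i => (Scheme.Hom.preimage_image_eq U.ι (W i)).ge
  let G : ∀ o o', Γ((Scheme.Modules.pushforward U.ι).obj F, V o ⊓ V o') := fun o o' =>
    match o, o' with
    | some i, some j => res F
        (le_inf ((U.ι.preimage_mono inf_le_left).trans (hV i)) ((U.ι.preimage_mono inf_le_right).trans (hV j)))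
        (g i j)
    | _, _ => 0
  have hcover : (⊤ : X.Opens) ≤ iSup V := fun x _ => by
    by_cases hx : x ∈ U
    · obtain ⟨i, hi⟩ := Opens.mem_iSup.1 (hW.ge (Set.mem_univ (⟨x, hx⟩ : U)))
      exact Opens.mem_iSup.2 ⟨some i, ⟨⟨x, hx⟩, hi, rfl⟩⟩
    · exact Opens.mem_iSup.2 ⟨none, hV₀ x hx⟩
  obtain ⟨α, hα⟩ := PicAux.CechOne.exists_split (Coh.toAb ((Scheme.Modules.pushforward U.ι).obj F))
    hH V hcover G fun o o' o'' => by
      rcases o with _ | i
      · exact Subsingleton.elim (h := hsub _ (inf_le_left.trans inf_le_left)) _ _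
      rcases o' with _ | j
      · exact Subsingleton.elim (h := hsub _ (inf_le_left.trans inf_le_right)) _ _
      rcases o'' with _ | k
      · exact Subsingleton.elim (h := hsub _ inf_le_right) _ _
      have h3 : U.ι ⁻¹ᵁ (V (some i) ⊓ V (some j) ⊓ V (some k)) ≤ W i ⊓ W j ⊓ W k :=
        le_inf (le_inf ((U.ι.preimage_mono (inf_le_left.trans inf_le_left)).trans (hV i))
          ((U.ι.preimage_mono (inf_le_left.trans inf_le_right)).trans (hV j)))
          ((U.ι.preimage_mono inf_le_right).trans (hV k))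
      have e := congrArg (res F h3) (hg i j k)
      simp only [PicAux.res_add, PicAux.res_res] at e
      show res F _ (res F _ (g i j)) + res F _ (res F _ (g j k)) = res F _ (res F _ (g i k))
      simp only [PicAux.res_res]
      exact e
  let α' : ∀ i, Γ(F, U.ι ⁻¹ᵁ (V (some i))) := fun i => α (some i)
  refine ⟨fun i => res F (hWV i) (α' i), fun i j => ?_⟩
  have h2 : W i ⊓ W j ≤ U.ι ⁻¹ᵁ (V (some i) ⊓ V (some j)) :=
    le_inf (inf_le_left.trans (hWV i)) (inf_le_right.trans (hWV j))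
  have e : G (some i) (some j) = res F (U.ι.preimage_mono inf_le_right) (α' j) -
      res F (U.ι.preimage_mono inf_le_left) (α' i) := hα (some i) (some j)
  have e' := (congrArg (res F h2) e).trans (res_sub' h2 _ _)
  simp only [G, PicAux.res_res, PicAux.res_self] at e' ⊢
  exact e'

/-- A cocycle with values in `J^(m+1)/J^(m+2)` on `U` splits. -/
theorem exists_split (U : X.Opens) (I : X.IdealSheafData) (hI : (I.support : Set X) ⊆ U) (m : ℕ)
    (h : Subsingleton (Coh.HH X (kernel (Lef.quotMap (Lef.pow_succ_le I m))) 1))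
    {ι : Type u} (W : ι → (U : Scheme.{u}).Opens) (hW : iSup W = ⊤) (hWaff : ∀ i, IsAffineOpen (W i))
    (c : ∀ i j, Γ((U : Scheme.{u}), W i ⊓ W j)) (hc : ∀ i j, Van (I.comap U.ι) m (c i j))
    (hcoc : ∀ i j k, Van (I.comap U.ι) (m + 1)
      (resX (U : Scheme.{u}) (inf_le_left : W i ⊓ W j ⊓ W k ≤ W i ⊓ W j) (c i j) +
        resX (U : Scheme.{u}) (inf_le_inf_right (W k) inf_le_right : W i ⊓ W j ⊓ W k ≤ W j ⊓ W k) (c j k) -
        resX (U : Scheme.{u}) (inf_le_inf_right (W k) inf_le_left : W i ⊓ W j ⊓ W k ≤ W i ⊓ W k) (c i k))) :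
    ∃ b : ∀ i, Γ((U : Scheme.{u}), W i), (∀ i, Van (I.comap U.ι) m (b i)) ∧
      ∀ i j, Van (I.comap U.ι) (m + 1) (c i j -
        (resX (U : Scheme.{u}) (inf_le_right : W i ⊓ W j ≤ W j) (b j) -
          resX (U : Scheme.{u}) (inf_le_left : W i ⊓ W j ≤ W i) (b i))) := by
  let J := I.comap U.ι
  let Q := ClSub.quotMod (J ^ (m + 1 + 1))
  let q : Q ⟶ ClSub.quotMod (J ^ (m + 1)) := Lef.quotMap (Lef.pow_succ_le J m)
  let π : ∀ (V : (U : Scheme.{u}).Opens), Γ((U : Scheme.{u}), V) →+ Γ(Q, V) := fun V =>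
    ((J ^ (m + 1 + 1)).subschemeι.app V).hom.toAddMonoidHom
  have hres : ∀ {V V' : (U : Scheme.{u}).Opens} (hle : V' ≤ V) (a : Γ((U : Scheme.{u}), V)),
      res Q hle (π V a) = π V' (resX (U : Scheme.{u}) hle a) := fun hle a =>
    (congr($((J ^ (m + 1 + 1)).subschemeι.naturality (homOfLE hle).op) a)).symm
  have hk : ∀ i j, ∃ k : Γ(kernel q, W i ⊓ W j), (kernel.ι q).app (W i ⊓ W j) k = π _ (c i j) :=
    fun i j => QCohMod.exists_app_eq_of_mono_exact (S := ShortComplex.mk _ _ (kernel.condition q))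
      (ShortComplex.exact_of_f_is_kernel _ (kernelIsKernel q)) _ (π _ (c i j))
      ((quotMap_app_toSub (c i j)).trans (hc i j))
  choose g hg using hk
  let V₀ : X.Opens := ⟨(I.support : Set X)ᶜ, I.support.isClosed.isOpen_compl⟩
  have hsub : ∀ V : X.Opens, V ≤ V₀ → Subsingleton Γ(kernel q, U.ι ⁻¹ᵁ V) := fun V hV => by
    have : Subsingleton Γ(Q, U.ι ⁻¹ᵁ V) := ⟨fun x y => PicAux.resX_ext (X := (J ^ (m + 1 + 1)).subscheme)
      (U := (J ^ (m + 1 + 1)).subschemeι ⁻¹ᵁ U.ι ⁻¹ᵁ V) (κ := PEmpty.{1})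
      (fun e => e.elim) (fun e => e.elim) (fun z hz => False.elim (hV hz (by
        have hmem : (J ^ (m + 1 + 1)).subschemeι z ∈ ((J ^ (m + 1 + 1)).support : Set (U : Scheme.{u})) := by
          rw [← Scheme.IdealSheafData.range_subschemeι]; exact ⟨z, rfl⟩
        rw [Scheme.IdealSheafData.support_pow_succ, Scheme.IdealSheafData.support_comap] at hmem
        exact hmem))) (x := x) (y := y) fun e => e.elim⟩
    exact (QCohMod.app_injective_of_mono (kernel.ι q) (U.ι ⁻¹ᵁ V)).subsingleton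
  obtain ⟨a, ha⟩ := exists_split_mod U V₀ (fun x hx h' => hx (hI h')) (kernel q) hsub
    (subsingleton_H_push U I hI m h) W hW g fun i j k => by
      refine QCohMod.app_injective_of_mono (kernel.ι q) _ ?_
      simp only [map_add, PicAux.app_res, hg, hres]
      have := hcoc i j k
      rw [← map_add, ← sub_eq_zero, ← map_sub]
      exact this
  have hb : ∀ i, ∃ b, π (W i) b = (kernel.ι q).app (W i) (a i) := fun i =>
    (J ^ (m + 1 + 1)).subschemeι.app_surjective (W i) (hWaff i) _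
  choose b hb using hb
  refine ⟨b, fun i => ?_, fun i j => ?_⟩
  · refine (quotMap_app_toSub (b i)).symm.trans ?_
    refine (congrArg (fun t => q.app (W i) t) (hb i)).trans ?_
    exact congrArg (fun φ => Scheme.Modules.Hom.app φ (W i) (a i)) (kernel.condition q)
  · have e := congrArg (fun t => (kernel.ι q).app _ t) (ha i j)
    simp only [map_sub, PicAux.app_res, hg, ← hb, hres] at e
    show π _ (_ - _) = 0
    rw [map_sub, map_sub, sub_eq_zero]
    exact e

end Groth.LefPic
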